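import Cfsg.Agent.CentreFour.Basic
import Cfsg.Agent.Fusion.SmallCentreMain
import Cfsg.Agent.Fusion.GroupSystem
import Cfsg.Agent.Invol.Dihedral
import Cfsg.Agent.S5093

/-!
# Non-abelian Sylow 2-subgroups with centre of index four in simple groups

In a non-abelian simple group such a Sylow subgroup is dihedral of order eight: the part of its
centre fixed by all fusion and the closure of its derived subgroup are disjoint commuting strongly
closed subgroups, so the former is trivial.
-/

set_option autoImplicit false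
set_option linter.style.haveILetI false
set_option linter.unusedSectionVars false

open Cfsg Cfsg.FusionSystem CfsgLib.Fusion CfsgLib.Fusion.SmallCentre
open scoped commutatorElement

namespace CfsgLib.CentreFour

universe u

/-- The maps of `F` preserving membership in `T`. -/
def preserveSystem {Ω : Type*} [Group Ω] {S : Subgroup Ω} (F : FusionSystem S) (T : Subgroup Ω)
    (hT : ∀ g ∈ S, ∀ x : Ω, x ∈ T ↔ g * x * g⁻¹ ∈ T) : FusionSystem S where
  Hom P := {φ | φ ∈ F.Hom P ∧ ∀ x : P, (x : Ω) ∈ T ↔ φ x ∈ T}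
  le_of_mem h := F.le_of_mem h.1
  injective_of_mem h := F.injective_of_mem h.1
  conj_mem {P g} hP hg := ⟨F.conj_mem hP hg, fun x => hT g hg x⟩
  comp_mem {P Q φ ψ} hφ hψ h :=
    ⟨F.comp_mem hφ.1 hψ.1 h, fun x => (hφ.2 x).trans (hψ.2 ⟨φ x, h x⟩)⟩
  inv_mem {P φ} hφ := by
    obtain ⟨ψ, hψ, h⟩ := F.inv_mem hφ.1
    refine ⟨ψ, ⟨hψ, ?_⟩, h⟩
    rintro ⟨_, x, rfl⟩
    rw [h x]
    exact (hφ.2 x).symm

variable {X : Type u} [Group X] [Finite X]

/-- Strong closure is decided on the automorphism groups of `S` and of the good subgroups. -/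
theorem closed_of_good (S : Sylow 2 X) {T : Subgroup X} (hTS : T ≤ (S : Subgroup X))
    (hn : (S : Subgroup X) ≤ Subgroup.normalizer (T : Set X))
    (h : ∀ P : Subgroup X, (P = (S : Subgroup X) ∨
        IsGood (groupFusionSystem (S : Subgroup X)) P) →
      ∀ α ∈ (groupFusionSystem (S : Subgroup X)).autGroup P, ∀ x : P, (x : X) ∈ T →
        ((α x : P) : X) ∈ T) :
    Cfsg.IsStronglyClosed T (S : Subgroup X) := by
  haveI : Fact (Nat.Prime 2) := ⟨Nat.prime_two⟩
  have hS : IsPGroup 2 (S : Subgroup X) := S.isPGroup'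
  set F := groupFusionSystem (S : Subgroup X) with hFdef
  have hF : F.IsSaturated 2 := groupFusion_saturated S
  have hle : F ≤ preserveSystem F T (fun g hg x => Subgroup.mem_normalizer_iff.1 (hn hg) x) :=
    alperin_saturated 2 hS hF _ fun P hP α hα => by
      have hP' : P = (S : Subgroup X) ∨ IsGood F P := hP.imp id (isGood_of_essential hS hF)
      have hPS : P ≤ (S : Subgroup X) := by
        rcases hP' with e | e
        exacts [e.le, e.leS]
      refine Subgroup.subset_closure ⟨(autGroup_carrier hPS).1 hα,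
        fun x => ⟨fun hx => h P hP' α hα x hx, fun hx => ?_⟩⟩
      have h' := h P hP' α⁻¹ (inv_mem hα) (α x) hx
      rwa [MulAut.inv_apply_self] at h'
  refine ⟨hTS, fun x hx g hg => ?_⟩
  have hφ : conjHom (Subgroup.zpowers x) g ∈ F.Hom (Subgroup.zpowers x) :=
    conjHom_mem_groupFusion (Subgroup.zpowers_le.2 (hTS hx)) fun y hy => by
      obtain ⟨i, rfl⟩ := Subgroup.mem_zpowers_iff.1 hy
      rw [← conj_zpow]
      exact zpow_mem hg i
  exact ((hle _ hφ).2 ⟨x, Subgroup.mem_zpowers x⟩).1 hx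

/-- The derived subgroup, in the ambient group. -/
theorem comm_eq_map {Ω : Type*} [Group Ω] (S : Subgroup Ω) :
    ⁅S, S⁆ = (commutator S).map S.subtype := by
  rw [_root_.commutator_def, Subgroup.map_commutator, ← MonoidHom.range_eq_map,
    Subgroup.range_subtype]

/-- In a non-abelian simple group a non-abelian Sylow 2-subgroup with centre of index four is
dihedral of order eight. -/
theorem card_eight [IsSimpleGroup X] (hX : ¬ ∀ a b : X, a * b = b * a) (S : Sylow 2 X)
    (hna : ¬ IsMulCommutative (S : Subgroup X))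
    (hidx4 : (Subgroup.center (S : Subgroup X)).index = 4) :
    Nat.card (S : Subgroup X) = 8 ∧ Nonempty ((S : Subgroup X) ≃* DihedralGroup 4) := by
  classical
  haveI : Fact (Nat.Prime 2) := ⟨Nat.prime_two⟩
  have hS : IsPGroup 2 (S : Subgroup X) := S.isPGroup'
  set F := groupFusionSystem (S : Subgroup X) with hFdef
  have hF : F.IsSaturated 2 := groupFusion_saturated S
  have hidx : (Subgroup.center (S : Subgroup X)).index = 2 ^ 2 := hidx4
  set D : Subgroup X := ⁅(S : Subgroup X), (S : Subgroup X)⁆ with hD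
  have hcle : D ≤ zc (S : Subgroup X) := comm_le_zc hidx hna
  have hDS : D ≤ (S : Subgroup X) := hcle.trans inf_le_left
  have hDcard : Nat.card D = 2 := by
    rw [hD, comm_eq_map, Subgroup.card_map_of_injective (S : Subgroup X).subtype_injective]
    exact (card_commutator_two hS hna hidx4).1
  have hn_of : ∀ {N : Subgroup X}, D ≤ N → N ≤ (S : Subgroup X) →
      (S : Subgroup X) ≤ Subgroup.normalizer (N : Set X) :=
    fun hc' hNS g hg => mem_normalizer_of_conj_mem hNS fun x hx => by
      have := mul_mem (hc' (Subgroup.commutator_mem_commutator hg (hNS hx))) hx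
      simpa [commutatorElement_def] using this
  -- there is a good subgroup
  obtain ⟨A, hA⟩ : ∃ A, IsGood F A := by
    by_contra hcon
    push Not at hcon
    obtain ⟨u, hu1, huniq⟩ := (Nat.card_eq_two_iff' (1 : D)).1 hDcard
    have hu2 : (u : X) ^ 2 = 1 := by
      have h : u ^ Nat.card D = 1 := pow_card_eq_one'
      rw [hDcard] at h
      exact congrArg Subtype.val h
    have hcl : Cfsg.IsStronglyClosed D (S : Subgroup X) :=
      closed_of_good S hDS (hn_of le_rfl hDS) fun P hP α hα x hx => by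
        rcases hP with rfl | hP
        · exact aut_mem_comm α hx
        · exact absurd hP (hcon P)
    refine false_of_unfused hX S (orderOf_eq_prime hu2 fun h => hu1 (Subtype.ext h)) (hDS u.2)
      fun g hg => ?_
    exact congrArg Subtype.val (huniq ⟨_, hcl.2 u u.2 g hg⟩ fun h => hu1 (Subtype.ext (by
      have h' : g * (u : X) * g⁻¹ = 1 := congrArg Subtype.val h
      exact conj_eq_one_iff.1 h')))
  -- at most two good subgroups
  obtain ⟨B, hB, hgood⟩ : ∃ B, IsGood F B ∧ ∀ C, IsGood F C → C = A ∨ C = B := by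
    by_cases h : ∃ B, IsGood F B ∧ B ≠ A
    · obtain ⟨B, hB, hBA⟩ := h
      exact ⟨B, hB, fun C hC => good_cases_two hidx hna hS hF rfl hA hB hBA.symm hC⟩
    · push Not at h
      exact ⟨A, hA, fun C hC => Or.inl (h C hC)⟩
  have hhyp : F.hyperfocalSubgroup 2 = (S : Subgroup X) := by
    rw [hFdef, Cfsg.Agent.S5093.result 2 S, inf_eq_left]
    have hn : (Cfsg.pResidual 2 X).Normal := CfsgLib.PResidual.pResidual_normal 2
    rcases hn.eq_bot_or_eq_top with e | e
    · exfalso
      have h2 : IsPGroup 2 X := by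
        intro g
        refine ⟨(orderOf g).factorization 2, ?_⟩
        have h := CfsgLib.PResidual.pow_mem_pResidual Nat.prime_two g
        rwa [e, Subgroup.mem_bot] at h
      haveI := h2.isNilpotent
      exact hX (IsSimpleGroup.comm_iff_isSolvable.2 inferInstance)
    · rw [e]; exact le_top
  have horb : ∀ {C E : Subgroup X}, IsGood F C → IsGood F E → orb F C ≤ orb F E := fun {C E} hC hE => by
    rcases eq_or_ne C E with rfl | hne
    · exact le_rfl
    · exact orb_le_of_two hidx hna hS hF rfl hhyp hC hE hne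
  obtain ⟨hRD, hRsup, -, -, -⟩ := hA.data hidx hna hS hF
  have hdata : ∀ (C : Subgroup X) (hC : IsGood F C), ∃ c ∈ C, c ∉ zc (S : Subgroup X) ∧ c ^ 2 = 1 ∧
      (∃ (α : MulAut C) (x : C), α ∈ F.autGroup C ∧ (x : X) ∈ D ∧ c = (α x : C)) ∧
      ∀ α ∈ F.autGroup C, ∃ β ∈ F.autGroup (S : Subgroup X), ∀ x : C,
        ((β ⟨x, hC.leS x.2⟩ : (S : Subgroup X)) : X)⁻¹ * ((α x : C) : X) ∈
          D ⊔ Subgroup.zpowers c :=
    fun C hC => (hC.data hidx hna hS hF).2.2.2.1
  choose f hfmem hfz hfp hfα hfd using hdata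
  set a := f A hA with ha_def
  set b := f B hB with hb_def
  have haS : a ∈ (S : Subgroup X) := hA.leS (hfmem A hA)
  have hbS : b ∈ (S : Subgroup X) := hB.leS (hfmem B hB)
  set M := D ⊔ Subgroup.zpowers a ⊔ Subgroup.zpowers b with hM
  have hDM : D ≤ M := le_sup_left.trans le_sup_left
  have haM : a ∈ M := Subgroup.mem_sup_left (Subgroup.mem_sup_right (Subgroup.mem_zpowers a))
  have hbM : b ∈ M := Subgroup.mem_sup_right (Subgroup.mem_zpowers b)
  have hMS : M ≤ (S : Subgroup X) :=
    sup_le (sup_le hDS (Subgroup.zpowers_le.2 haS)) (Subgroup.zpowers_le.2 hbS)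
  have hcM : ∀ (C : Subgroup X) (hC : IsGood F C), f C hC ∈ M := fun C hC => by
    rcases hgood C hC with e | e
    · subst e; exact haM
    · subst e; exact hbM
  have hgenM : ∀ (C : Subgroup X) (hC : IsGood F C), D ⊔ Subgroup.zpowers (f C hC) ≤ M :=
    fun C hC => sup_le hDM (Subgroup.zpowers_le.2 (hcM C hC))
  have hautS : ∀ β ∈ F.autGroup (S : Subgroup X), ∀ x : (S : Subgroup X), (x : X) ∈ M →
      ((β x : (S : Subgroup X)) : X) ∈ M := by
    intro β hβ
    have key : ∀ (C : Subgroup X) (hC : IsGood F C),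
        ((β ⟨f C hC, hC.leS (hfmem C hC)⟩ : (S : Subgroup X)) : X) ∈ M := by
      intro C hC
      obtain ⟨α, x, hα, hx, hfx⟩ := hfα C hC
      obtain ⟨α', y, hα', hy, hy'⟩ := hC.image_apply hβ hα x
      have hC' := (hC.image hβ).1
      obtain ⟨β', -, hβe⟩ := hfd _ hC' α' hα'
      have hyD : (y : X) ∈ D := hy ▸ aut_mem_comm β hx
      have h1 := mul_mem (hDM (aut_mem_comm β' (x := ⟨y, hC'.leS y.2⟩) hyD))
        (hgenM _ hC' (hβe y))
      rw [mul_inv_cancel_left, hy'] at h1
      rwa [show (⟨f C hC, hC.leS (hfmem C hC)⟩ : (S : Subgroup X)) =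
        ⟨(α x : C), hC.leS (α x).2⟩ from Subtype.ext hfx]
    intro x hx
    have hle : M ≤ ((M.subgroupOf (S : Subgroup X)).comap β.toMonoidHom).map
        (S : Subgroup X).subtype :=
      sup_le (sup_le (fun d hd => ⟨⟨d, hDS hd⟩, hDM (aut_mem_comm β (x := ⟨d, hDS hd⟩) hd), rfl⟩)
        (Subgroup.zpowers_le.2 ⟨⟨a, haS⟩, key A hA, rfl⟩))
        (Subgroup.zpowers_le.2 ⟨⟨b, hbS⟩, key B hB, rfl⟩)
    obtain ⟨y, hy, hyx⟩ := hle hx
    obtain rfl : y = x := Subtype.ext hyx
    exact hy
  have hMcl : Cfsg.IsStronglyClosed M (S : Subgroup X) := by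
    refine closed_of_good S hMS (hn_of hDM hMS) fun P hP α hα x hx => ?_
    rcases hP with rfl | hP
    · exact hautS α hα x hx
    · obtain ⟨β, hβ, hβe⟩ := hfd P hP α hα
      have h1 := mul_mem (hautS β hβ ⟨x, hP.leS x.2⟩ hx) (hgenM P hP (hβe x))
      rwa [mul_inv_cancel_left] at h1
  set R := orb F A with hR
  have hRz : R ≤ zc (S : Subgroup X) := orb_le_zc
  have hRS : R ≤ (S : Subgroup X) := hRz.trans inf_le_left
  have hRnorm : (S : Subgroup X) ≤ Subgroup.normalizer (R : Set X) := fun g hg =>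
    mem_normalizer_of_conj_mem hRS fun x hx => by
      rwa [(mem_zc.1 (hRz hx)).2 g hg, mul_inv_cancel_right]
  have hRcl : Cfsg.IsStronglyClosed R (S : Subgroup X) := by
    refine closed_of_good S hRS hRnorm fun P hP α hα x hx => ?_
    rcases hP with rfl | hP
    · obtain ⟨hg, he⟩ := hA.image hα
      exact horb hg hA (he.le (Subgroup.mem_subgroupOf.2 hx) : _)
    · exact horb hP hA (orb_invariant hα (horb hA hP hx))
  have ha : a ∉ zc (S : Subgroup X) := hfz A hA
  have ha2 : a ^ 2 = 1 := hfp A hA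
  have hb2 : b ^ 2 = 1 := hfp B hB
  by_cases hR0 : R = ⊥
  · -- the centre is the derived subgroup
    have hcardZ : Nat.card (Subgroup.center (S : Subgroup X)) = 2 := by
      have hzS : zc (S : Subgroup X) ≤ (S : Subgroup X) := fun x hx => hx.1
      rw [← zc_subgroupOf, Nat.card_congr (Subgroup.subgroupOfEquivOfLe hzS).toEquiv, ← hRsup, hR0,
        bot_sup_eq, hDcard]
    have hcard : Nat.card (S : Subgroup X) = 8 := by
      rw [← Subgroup.card_mul_index (Subgroup.center (S : Subgroup X)), hcardZ, hidx4]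
    refine ⟨hcard, ?_⟩
    obtain ⟨g, hgS, hgA⟩ := SetLike.exists_of_lt (lt_of_le_of_ne hA.leS hA.neS)
    have haA : a ∈ A := hfmem A hA
    obtain ⟨hDz, hord⟩ := hA.comm_eq hidx hna haA ha hgS hgA
    set c := ⁅g, a⁆ with hc
    have hcD : c ∈ D := hDz.ge (Subgroup.mem_zpowers c)
    have hczc : ∀ y ∈ (S : Subgroup X), y * c = c * y := (mem_zc.1 (hcle hcD)).2
    have hga : g * a = c * (a * g) := by rw [hc, commutatorElement_def]; group
    have hg2 : g * g ∈ D := by
      have h := pow_mem_zc (p := 2) hidx hna hgS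
      rw [pow_two, ← hRsup, hR0, bot_sup_eq] at h
      exact h
    have hc2 : c ^ 2 = 1 := by rw [← hord]; exact pow_orderOf_eq_one c
    -- a second involution outside `A`
    obtain ⟨h, hhS, hhA, hh2, hah⟩ : ∃ h ∈ (S : Subgroup X), h ∉ A ∧ h ^ 2 = 1 ∧ h * a = c * (a * h) := by
      rw [hD, hDz, Subgroup.mem_zpowers_iff] at hg2
      obtain ⟨i, hi⟩ := hg2
      rcases zpow_two_cases hc2 i with e | e
      · exact ⟨g, hgS, hgA, by rw [pow_two, ← hi, e], hga⟩
      · refine ⟨a * g, mul_mem haS hgS, fun h => hgA ?_, ?_, ?_⟩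
        · have h' := mul_mem (inv_mem haA) h
          rwa [inv_mul_cancel_left] at h'
        · have hcc : c * c = 1 := by rw [← pow_two]; exact hc2
          have haa : a * a = 1 := by rw [← pow_two, ha2]
          calc (a * g) ^ 2 = a * (g * a) * g := by rw [pow_two]; group
            _ = a * c * a * (g * g) := by rw [hga]; group
            _ = c * (a * a) * (g * g) := by rw [hczc a haS]; group
            _ = 1 := by rw [haa, mul_one, ← hi, e, hcc]
        · rw [mul_assoc a g a, hga, ← mul_assoc a c, hczc a haS, mul_assoc]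
    have hne1 : a ≠ 1 := fun e => ha (e ▸ one_mem _)
    have hhne1 : h ≠ 1 := fun e => hhA (e ▸ one_mem _)
    have hoa : orderOf a = 2 := orderOf_eq_prime ha2 hne1
    have hoh : orderOf h = 2 := orderOf_eq_prime hh2 hhne1
    have hahne : a ≠ h := fun e => hhA (e ▸ haA)
    have hc1 : c ≠ 1 := fun e => by rw [e, orderOf_one] at hord; omega
    have hsq : (a * h) ^ 2 = c := by
      have haa : a * a = 1 := by rw [← pow_two, ha2]
      have hhh : h * h = 1 := by rw [← pow_two, hh2]
      calc (a * h) ^ 2 = a * (h * a) * h := by rw [pow_two]; group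
        _ = a * c * a * (h * h) := by rw [hah]; group
        _ = c * (a * a) * (h * h) := by rw [hczc a haS]; group
        _ = c := by rw [haa, hhh, mul_one, mul_one]
    have h4 : orderOf (a * h) = 4 := by
      refine orderOf_eq_prime_pow (p := 2) (n := 1) ?_ ?_
      · rw [pow_one, hsq]; exact hc1
      · rw [pow_succ, pow_one, pow_mul, hsq, hc2]
    obtain ⟨e⟩ := CfsgLib.Invol.nonempty_dihedral_equiv hoa hoh hahne
    rw [h4] at e
    have heq : Subgroup.closure ({a, h} : Set X) = (S : Subgroup X) := by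
      refine Subgroup.eq_of_le_of_card_ge ((Subgroup.closure_le _).2 ?_) ?_
      · rintro y (rfl | rfl)
        exacts [haS, hhS]
      · rw [Nat.card_congr e.toEquiv, DihedralGroup.nat_card, hcard]
    exact ⟨(MulEquiv.subgroupCongr heq.symm).trans e⟩
  exfalso
  -- the centre meets `M` in the derived subgroup
  have hMz : ∀ z ∈ M, z ∈ zc (S : Subgroup X) → z ∈ D := by
    intro z hzM hz
    set N₁ := D ⊔ Subgroup.zpowers a with hN₁
    have hN₁A : N₁ ≤ A := sup_le (hcle.trans hA.zle) (Subgroup.zpowers_le.2 (hfmem A hA))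
    have hbn : Subgroup.zpowers b ≤ Subgroup.normalizer (N₁ : Set X) := Subgroup.zpowers_le.2
      (hn_of le_sup_left (hN₁A.trans hA.leS) hbS)
    have han : Subgroup.zpowers a ≤ Subgroup.normalizer (D : Set X) := Subgroup.zpowers_le.2
      (hn_of le_rfl hDS haS)
    rw [hM, sup_comm] at hzM
    obtain ⟨_, ⟨i, rfl⟩, n, hn, e⟩ := (CfsgLib.Solvable.mem_sup_of_le_normalizer hbn).1 hzM
    have hzN₁ : z ∈ N₁ := by
      rcases zpow_two_cases hb2 i with hi | hi
      · simp only [hi, one_mul] at e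
        exact e ▸ hn
      · simp only [hi] at e
        have hbA : b ∈ A := by
          rw [show b = z * n⁻¹ by rw [← e, mul_inv_cancel_right]]
          exact mul_mem (hA.zle hz) (inv_mem (hN₁A hn))
        have hAB : A = B := hA.eq_of_mem hidx hB hbA (hfmem B hB) (hfz B hB)
        have hab : b = a := by
          rw [hb_def, ha_def]
          subst hAB
          rfl
        rw [← e, hab]
        exact mul_mem (Subgroup.mem_sup_right (Subgroup.mem_zpowers a)) hn
    rw [hN₁, sup_comm] at hzN₁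
    obtain ⟨_, ⟨j, rfl⟩, m, hm, e'⟩ := (CfsgLib.Solvable.mem_sup_of_le_normalizer han).1 hzN₁
    rcases zpow_two_cases ha2 j with hj | hj
    · simp only [hj, one_mul] at e'
      exact e' ▸ hm
    · simp only [hj] at e'
      refine absurd ?_ ha
      rw [show a = z * m⁻¹ by rw [← e', mul_inv_cancel_right]]
      exact mul_mem hz (inv_mem (hcle hm))
  -- the involutions of `R`
  let R₁ : Subgroup X :=
    { carrier := {x | x ∈ R ∧ x ^ 2 = 1}
      one_mem' := ⟨one_mem _, one_pow 2⟩
      mul_mem' := fun {x y} hx hy => ⟨mul_mem hx.1 hy.1, by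
        rw [(show Commute x y from (mem_zc.1 (hRz hy.1)).2 x (hRS hx.1)).mul_pow, hx.2, hy.2,
          one_mul]⟩
      inv_mem' := fun {x} hx => ⟨inv_mem hx.1, by rw [inv_pow, hx.2, inv_one]⟩ }
  have hR₁cl : Cfsg.IsStronglyClosed R₁ (S : Subgroup X) :=
    ⟨fun x hx => hRS hx.1, fun x hx g hg => ⟨hRcl.2 x hx.1 g hg, by
      rw [conj_pow, hx.2, mul_one, mul_inv_cancel]⟩⟩
  have hgenR : R₁ ≤ Subgroup.closure {x | x ∈ R₁ ∧ orderOf x = 2} := fun x hx => by
    by_cases h : x = 1
    · subst h; exact one_mem _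
    · exact Subgroup.subset_closure ⟨hx, orderOf_eq_prime hx.2 h⟩
  have hinvol : ∀ x ∈ M, x ^ 2 = 1 → x ∈ Subgroup.closure {x | x ∈ M ∧ orderOf x = 2} :=
    fun x hx hx2 => by
      by_cases h : x = 1
      · subst h; exact one_mem _
      · exact Subgroup.subset_closure ⟨hx, orderOf_eq_prime hx2 h⟩
  have hgenM' : M ≤ Subgroup.closure {x | x ∈ M ∧ orderOf x = 2} := by
    refine sup_le (sup_le (fun d hd => hinvol d (hDM hd) ?_)
      (Subgroup.zpowers_le.2 (hinvol a haM ha2))) (Subgroup.zpowers_le.2 (hinvol b hbM hb2))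
    have h : (⟨d, hd⟩ : D) ^ Nat.card D = 1 := pow_card_eq_one'
    rw [hDcard] at h
    exact congrArg Subtype.val h
  have hM1 : M ≠ ⊥ := fun e => ha (by
    have h : a ∈ (⊥ : Subgroup X) := e ▸ haM
    rw [Subgroup.mem_bot] at h
    rw [h]
    exact one_mem _)
  have hR₁1 : R₁ ≠ ⊥ := fun e => by
    haveI : Nontrivial R := (Subgroup.nontrivial_iff_ne_bot R).2 hR0
    obtain ⟨k, hk⟩ := IsPGroup.iff_card.1 (hS.to_le hRS)
    obtain ⟨x, hx⟩ := exists_prime_orderOf_dvd_card' (G := R) 2 (by
      rw [hk]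
      refine dvd_pow_self 2 fun h0 => ?_
      have := Finite.one_lt_card (α := R)
      rw [hk, h0] at this
      simp at this)
    have hx' : (x : X) ∈ R₁ :=
      ⟨x.2, by rw [← hx, ← Subgroup.orderOf_coe, pow_orderOf_eq_one]⟩
    rw [e, Subgroup.mem_bot, ← orderOf_eq_one_iff, Subgroup.orderOf_coe, hx] at hx'
    omega
  refine hX (comm_of_closed S hMcl hR₁cl (fun x hx y hy => (mem_zc.1 (hRz hy.1)).2 x (hMS hx))
    (eq_bot_iff.2 ?_) hgenM' hgenR hM1 hR₁1)
  rintro x ⟨hxM, hxR⟩
  have h : x ∈ R ⊓ D := ⟨hxR.1, hMz x hxM (hRz hxR.1)⟩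
  rwa [hRD] at h

end CfsgLib.CentreFour
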