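import Cfsg.Agent.CentreFour.Basic
import Cfsg.Agent.Fusion.Homocyclic.Main
import Cfsg.Agent.FGSA.InvariantComplement

/-!
# Abelian Sylow 2-subgroups of simple groups with an invariant subgroup of index four

The normalizer of an abelian Sylow 2-subgroup of a simple group is irreducible on the involutions,
and with Brauer's theorem an invariant subgroup of index four containing all squares is trivial.
-/

set_option autoImplicit false
set_option linter.style.haveILetI false
set_option linter.unusedSectionVars false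

namespace CfsgLib.CentreFour

open Subgroup
open CfsgLib.Coprime (IsInvariant)

universe u

variable {X : Type u} [Group X] [Finite X] [IsSimpleGroup X] {S : Sylow 2 X}

/-- `W` lies in `S` and is normalized by `N(S)`. -/
def Inv (S : Sylow 2 X) (W : Subgroup X) : Prop :=
  W ≤ (S : Subgroup X) ∧
    ∀ n ∈ normalizer ((S : Subgroup X) : Set X), ∀ x ∈ W, n * x * n⁻¹ ∈ W

variable (hcomm : ∀ a ∈ (S : Subgroup X), ∀ b ∈ (S : Subgroup X), a * b = b * a)

include hcomm in
theorem burnside {x g : X} (hx : x ∈ (S : Subgroup X)) (hg : g * x * g⁻¹ ∈ (S : Subgroup X)) :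
    ∃ n ∈ normalizer ((S : Subgroup X) : Set X), g * x * g⁻¹ = n * x * n⁻¹ := by
  haveI : Fact (Nat.Prime 2) := ⟨Nat.prime_two⟩
  haveI : IsMulCommutative (S : Subgroup X) := ⟨⟨fun a b => Subtype.ext (hcomm a a.2 b b.2)⟩⟩
  obtain ⟨n, hn, he⟩ := S.conj_eq_normalizer_conj_of_mem x g⁻¹ hx (by rwa [inv_inv])
  exact ⟨n⁻¹, inv_mem hn, by rw [inv_inv] at he ⊢; exact he⟩

include hcomm in
theorem Inv.stronglyClosed {W : Subgroup X} (hW : Inv S W) :
    Cfsg.IsStronglyClosed W (S : Subgroup X) :=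
  ⟨hW.1, fun x hx g hg => by
    obtain ⟨n, hn, he⟩ := burnside hcomm (hW.1 hx) hg
    rw [he]
    exact hW.2 n hn x hx⟩

/-- The elements of `W` killed by the power `m`. -/
def powKer (hcomm : ∀ a ∈ (S : Subgroup X), ∀ b ∈ (S : Subgroup X), a * b = b * a) (W : Subgroup X)
    (hW : W ≤ (S : Subgroup X)) (m : ℕ) : Subgroup X where
  carrier := {x | x ∈ W ∧ x ^ m = 1}
  one_mem' := ⟨one_mem _, one_pow m⟩
  mul_mem' := fun {a b} ha hb => ⟨mul_mem ha.1 hb.1, by
    rw [(show Commute a b from hcomm a (hW ha.1) b (hW hb.1)).mul_pow, ha.2, hb.2, one_mul]⟩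
  inv_mem' := fun {a} ha => ⟨inv_mem ha.1, by rw [inv_pow, ha.2, inv_one]⟩

theorem mem_powKer {W : Subgroup X} {hW : W ≤ (S : Subgroup X)} {m : ℕ} {x : X} :
    x ∈ powKer hcomm W hW m ↔ x ∈ W ∧ x ^ m = 1 := Iff.rfl

theorem Inv.powKer {W : Subgroup X} (hW : Inv S W) (m : ℕ) :
    Inv S (powKer hcomm W hW.1 m) :=
  ⟨fun _ hx => hW.1 hx.1, fun n hn x hx => ⟨hW.2 n hn x hx.1, by
    rw [conj_pow, hx.2, mul_one, mul_inv_cancel]⟩⟩

theorem inv_top : Inv S (S : Subgroup X) :=
  ⟨le_rfl, fun _ hn x hx => (mem_normalizer_iff.1 hn x).1 hx⟩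

variable (hna : ¬ ∀ a b : X, a * b = b * a)

include hcomm hna in
/-- The normalizer acts irreducibly on the involutions. -/
theorem irred {W : Subgroup X} (hW : Inv S W) (hW2 : ∀ x ∈ W, x ^ 2 = 1) (hW1 : W ≠ ⊥) :
    powKer hcomm (S : Subgroup X) le_rfl 2 ≤ W := by
  classical
  haveI : Fact (Nat.Prime 2) := ⟨Nat.prime_two⟩
  set N := normalizer ((S : Subgroup X) : Set X) with hN
  set O := powKer hcomm (S : Subgroup X) le_rfl 2 with hO
  have hOinv : Inv S O := (inv_top (S := S)).powKer hcomm 2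
  letI : CommGroup O := { (inferInstance : Group O) with
    mul_comm := fun a b => Subtype.ext (hcomm a (hOinv.1 a.2) b (hOinv.1 b.2)) }
  let φ : N →* MulAut O := MonoidHom.mk'
    (fun n =>
      { toFun := fun x => ⟨n * x * (n : X)⁻¹, hOinv.2 n n.2 x x.2⟩
        invFun := fun x => ⟨(n : X)⁻¹ * x * n, by
          simpa using hOinv.2 (n : X)⁻¹ (inv_mem n.2) x x.2⟩
        left_inv := fun x => Subtype.ext (by simp [mul_assoc])
        right_inv := fun x => Subtype.ext (by simp [mul_assoc])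
        map_mul' := fun x y => Subtype.ext (by simp [mul_assoc]) })
    fun n m => MulEquiv.ext fun x => Subtype.ext (by simp [mul_assoc])
  have hker : (S : Subgroup X).subgroupOf N ≤ φ.ker := fun n hn => by
    refine MulEquiv.ext fun x => Subtype.ext ?_
    show (n : X) * x * (n : X)⁻¹ = x
    rw [hcomm n hn x (hOinv.1 x.2), mul_inv_cancel_right]
  have hodd : ¬ 2 ∣ Nat.card φ.range := by
    rw [← index_ker]
    intro h
    have h1 : 2 ∣ ((S : Subgroup X).subgroupOf N).index := h.trans (index_dvd_of_le hker)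
    exact S.not_dvd_index (h1.trans (relIndex_dvd_index_of_le (le_normalizer (H := (S : Subgroup X)))))
  haveI : Finite (MulAut O) := Finite.of_injective _ DFunLike.coe_injective
  have hcop : (Nat.card φ.range).Coprime (Nat.card O) := by
    obtain ⟨k, hk⟩ := IsPGroup.iff_card.1 (S.isPGroup'.to_le hOinv.1)
    rw [hk]
    exact ((Nat.prime_two.coprime_iff_not_dvd.2 hodd).pow_left k).symm
  have hWO : W ≤ O := fun x hx => ⟨hW.1 hx, hW2 x hx⟩
  have hK : IsInvariant φ.range (W.subgroupOf O) := by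
    rintro ⟨_, n, rfl⟩ a ha
    exact hW.2 n n.2 a ha
  obtain ⟨C, hC, hd, htop⟩ := CfsgLib.InvariantComplement.exists_invariant_compl (p := 2) (n := 0)
    hcop (fun a => Subtype.ext (by simpa using a.2.2)) (W.subgroupOf O) hK
    (fun k _ hk1 => ⟨1, one_mem _, by simpa using hk1.symm⟩)
  by_cases hC0 : C = ⊥
  · rw [hC0, bot_sup_eq, subgroupOf_eq_top] at htop
    exact htop
  exfalso
  set M := C.map O.subtype with hM
  have hMS : M ≤ O := map_subtype_le C
  have hMi : Inv S M := ⟨hMS.trans hOinv.1, by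
    rintro n hn _ ⟨a, ha, rfl⟩
    exact ⟨_, hC ⟨φ ⟨n, hn⟩, ⟨_, rfl⟩⟩ a ha, rfl⟩⟩
  have hgen : ∀ A : Subgroup X, A ≤ O → A ≤ closure {x | x ∈ A ∧ orderOf x = 2} := fun A hA x hx => by
    by_cases h : x = 1
    · subst h; exact one_mem _
    · exact subset_closure ⟨hx, orderOf_eq_prime (hA hx).2 h⟩
  refine hna (comm_of_closed S (hW.stronglyClosed hcomm) (hMi.stronglyClosed hcomm)
    (fun a ha b hb => hcomm a (hW.1 ha) b (hMi.1 hb)) ?_ (hgen W hWO) (hgen M hMS) hW1 ?_)
  · refine eq_bot_iff.2 ?_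
    rintro x ⟨hxW, a, ha, rfl⟩
    have : a ∈ C ⊓ W.subgroupOf O := ⟨ha, hxW⟩
    rw [hd, mem_bot] at this
    rw [this]
    exact one_mem _
  · rw [hM, Ne, map_eq_bot_iff_of_injective _ O.subtype_injective]
    exact hC0

include hna hcomm in
/-- An invariant subgroup of index four containing the squares is trivial. -/
theorem card_eq_four {Z : Subgroup X} (hZ : Inv S Z) (hidx : Z.relIndex (S : Subgroup X) = 4)
    (hsq : ∀ x ∈ (S : Subgroup X), x * x ∈ Z) :
    Nat.card (S : Subgroup X) = 4 ∧ ∀ x ∈ (S : Subgroup X), x * x = 1 := by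
  classical
  haveI : Fact (Nat.Prime 2) := ⟨Nat.prime_two⟩
  have hcardS : Nat.card (S : Subgroup X) = 4 * Nat.card Z := by
    have h := card_mul_index (Z.subgroupOf (S : Subgroup X))
    rw [Nat.card_congr (subgroupOfEquivOfLe hZ.1).toEquiv] at h
    rw [← h, show (Z.subgroupOf (S : Subgroup X)).index = 4 from hidx, mul_comm]
  have hexp : ∀ A : Subgroup X, A ≤ (S : Subgroup X) → A ≠ ⊥ →
      powKer hcomm (S : Subgroup X) le_rfl 2 ⊓ A ≠ ⊥ := fun A hA hA1 h => by
    haveI : Nontrivial A := (nontrivial_iff_ne_bot A).2 hA1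
    obtain ⟨k, hk⟩ := IsPGroup.iff_card.1 (S.isPGroup'.to_le hA)
    obtain ⟨x, hx⟩ := exists_prime_orderOf_dvd_card' (G := A) 2 (by
      rw [hk]
      refine dvd_pow_self 2 fun h0 => ?_
      have := Finite.one_lt_card (α := A)
      rw [hk, h0] at this
      simp at this)
    have hx' : (x : X) ∈ powKer hcomm (S : Subgroup X) le_rfl 2 ⊓ A :=
      ⟨⟨hA x.2, by rw [← hx, ← Subgroup.orderOf_coe, pow_orderOf_eq_one]⟩, x.2⟩
    rw [h, mem_bot, ← orderOf_eq_one_iff, Subgroup.orderOf_coe, hx] at hx'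
    omega
  set O := powKer hcomm (S : Subgroup X) le_rfl 2 with hO
  have hOinv : Inv S O := (inv_top (S := S)).powKer hcomm 2
  by_cases hZ1 : Z = ⊥
  · refine ⟨by rw [hcardS, hZ1, card_bot], fun x hx => ?_⟩
    have := hsq x hx
    rwa [hZ1, mem_bot] at this
  exfalso
  have hW : Inv S (O ⊓ Z) := ⟨fun _ hx => hZ.1 hx.2, fun n hn x hx =>
    ⟨hOinv.2 n hn x hx.1, hZ.2 n hn x hx.2⟩⟩
  have hOZ : O ≤ Z := (irred hcomm hna hW (fun x hx => hx.1.2) (hexp Z hZ.1 hZ1)).trans inf_le_right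
  -- the first layer outside `Z`
  set K : ℕ → Subgroup X := fun j => powKer hcomm (S : Subgroup X) le_rfl (2 ^ j) with hK
  have hKinv : ∀ j, Inv S (K j) := fun j => (inv_top (S := S)).powKer hcomm _
  obtain ⟨e, he⟩ := IsPGroup.iff_card.1 S.isPGroup'
  have hall : ∃ j, ¬ K j ≤ Z := ⟨e, fun hle => by
    have hSZ : (S : Subgroup X) ≤ Z := fun x hx => hle ⟨hx, by
      have h : (⟨x, hx⟩ : (S : Subgroup X)) ^ Nat.card (S : Subgroup X) = 1 := pow_card_eq_one'
      rw [he] at h
      exact congrArg Subtype.val h⟩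
    rw [relIndex_eq_one.2 hSZ] at hidx
    omega⟩
  obtain ⟨j, hj1, hj2⟩ : ∃ j, K j ≤ Z ∧ ¬ K (j + 1) ≤ Z := by
    have h0 : Nat.find hall ≠ 0 := fun h => by
      have := Nat.find_spec hall
      rw [h] at this
      exact this fun x hx => by
        have h1 : x = 1 := by simpa [hK, mem_powKer] using hx.2
        subst h1; exact one_mem _
    refine ⟨Nat.find hall - 1, ?_, ?_⟩
    · exact not_not.1 (Nat.find_min hall (by omega))
    · rw [show Nat.find hall - 1 + 1 = Nat.find hall by omega]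
      exact Nat.find_spec hall
  have hKle : K j ≤ K (j + 1) := fun x hx => ⟨hx.1, by rw [pow_succ, pow_mul, hx.2, one_pow]⟩
  -- the power map onto the involutions
  letI : CommGroup (S : Subgroup X) := { (inferInstance : Group (S : Subgroup X)) with
    mul_comm := fun a b => Subtype.ext (hcomm a a.2 b b.2) }
  let f : (S : Subgroup X) →* X := (S : Subgroup X).subtype.comp (powMonoidHom (2 ^ j))
  have hf : ∀ x : (S : Subgroup X), f x = (x : X) ^ 2 ^ j := fun x => rfl
  have himg : ∀ A : Subgroup X, Inv S A → A ≤ K (j + 1) → ¬ A ≤ K j →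
      O ≤ (A.subgroupOf (S : Subgroup X)).map f := by
    intro A hA hAK hAj
    refine irred hcomm hna ⟨?_, ?_⟩ ?_ ?_
    · rintro _ ⟨a, -, rfl⟩
      rw [hf]; exact pow_mem a.2 _
    · rintro n hn _ ⟨a, ha, rfl⟩
      exact ⟨⟨n * a * n⁻¹, (mem_normalizer_iff.1 hn _).1 a.2⟩, hA.2 n hn a ha, by
        rw [hf, hf, conj_pow]⟩
    · rintro _ ⟨a, ha, rfl⟩
      rw [hf, ← pow_mul, ← pow_succ]
      exact (hAK ha).2
    · intro h
      refine hAj fun x hx => ⟨hA.1 hx, ?_⟩
      have h2 : f ⟨x, hA.1 hx⟩ ∈ (A.subgroupOf (S : Subgroup X)).map f := ⟨_, hx, rfl⟩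
      rwa [h, mem_bot, hf] at h2
  by_cases hcase : Z ⊓ K (j + 1) ≤ K j
  swap
  · have hZi : Inv S (Z ⊓ K (j + 1)) := ⟨fun _ hx => hZ.1 hx.1, fun n hn x hx =>
      ⟨hZ.2 n hn x hx.1, (hKinv _).2 n hn x hx.2⟩⟩
    have h := himg _ hZi inf_le_right hcase
    refine hj2 fun x hx => ?_
    have hxO : f ⟨x, hx.1⟩ ∈ O := ⟨pow_mem hx.1 _, by
      rw [hf, ← pow_mul, ← pow_succ]; exact hx.2⟩
    obtain ⟨w, hw, hwe⟩ := h hxO
    rw [hf, hf] at hwe
    have hc : Commute ((w : X)⁻¹) x := hcomm _ (inv_mem w.2) x hx.1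
    have hmem : (w : X)⁻¹ * x ∈ K j := ⟨mul_mem (inv_mem w.2) hx.1, by
      rw [hc.mul_pow, inv_pow, hwe, inv_mul_cancel]⟩
    have := mul_mem hw.1 (hj1 hmem)
    simpa using this
  have hZK : Z.subgroupOf (K (j + 1)) = (K j).subgroupOf (K (j + 1)) := by
    ext x
    exact ⟨fun h => hcase ⟨h, x.2⟩, fun h => hj1 h⟩
  -- there are at most four elements of order dividing two
  let g : K (j + 1) →* O := MonoidHom.mk' (fun x => ⟨(x : X) ^ 2 ^ j, pow_mem x.2.1 _, by
      rw [← pow_mul, ← pow_succ]; exact x.2.2⟩) fun a b =>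
    Subtype.ext ((show Commute (a : X) b from hcomm a a.2.1 b b.2.1).mul_pow _)
  have hgs : Function.Surjective g := fun y => by
    obtain ⟨w, hw, hwe⟩ := himg _ (hKinv (j + 1)) le_rfl (fun h => hj2 (h.trans hj1)) y.2
    exact ⟨⟨w, hw⟩, Subtype.ext hwe⟩
  have hgk : g.ker = (K j).subgroupOf (K (j + 1)) := by
    ext x
    rw [MonoidHom.mem_ker, mem_subgroupOf]
    exact ⟨fun h => ⟨x.2.1, congrArg Subtype.val h⟩, fun h => Subtype.ext h.2⟩
  have hcardO : Nat.card O ≤ 4 := by
    have h := index_ker g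
    rw [MonoidHom.range_eq_top.2 hgs, card_top, hgk, ← hZK] at h
    rw [← h]
    exact le_trans (relIndex_le_of_le_right (hKinv (j + 1)).1 (by rw [hidx]; norm_num)) hidx.le
  obtain ⟨k, hk⟩ := IsPGroup.iff_card.1 (S.isPGroup'.to_le hOinv.1)
  have hSne : (S : Subgroup X) ≠ ⊥ := fun h => by
    rw [h, card_bot] at hcardS
    omega
  have hOne : O ≠ ⊥ := fun h => hexp _ le_rfl hSne (by rw [h, bot_inf_eq])
  have hk0 : k ≠ 0 := fun h => hOne (eq_bot_of_card_eq _ (by rw [hk, h, pow_zero]))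
  have hmemO : ∀ x : X, x ∈ O ↔ x ∈ (S : Subgroup X) ∧ x ^ 2 = 1 := fun x => Iff.rfl
  rcases (by
    have : k ≤ 2 := (Nat.pow_le_pow_iff_right (one_lt_two)).1 (hk ▸ hcardO)
    omega : k = 1 ∨ k = 2) with h1 | h2
  · -- a single involution
    rw [h1, pow_one] at hk
    haveI : Finite O := inferInstance
    obtain ⟨u, hu1, huniq⟩ := (Nat.card_eq_two_iff' (1 : O)).1 hk
    have hu : orderOf (u : X) = 2 := orderOf_eq_prime u.2.2 fun h => hu1 (Subtype.ext h)
    refine false_of_unfused hna S hu u.2.1 fun g hg => ?_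
    have hgO : g * u * g⁻¹ ∈ O := ⟨hg, by rw [conj_pow, u.2.2, mul_one, mul_inv_cancel]⟩
    exact congrArg Subtype.val (huniq ⟨_, hgO⟩ fun h => hu1 (Subtype.ext (by
      have h' : g * (u : X) * g⁻¹ = 1 := congrArg Subtype.val h
      exact conj_eq_one_iff.1 h')))
  · -- three involutions
    rw [h2] at hk
    have hsetup : CfsgLib.HomocyclicTwo.Setup S := by
      refine ⟨hcomm, ?_⟩
      haveI : Fintype O := Fintype.ofFinite _
      rw [Nat.card_congr (β := {x : O // x ≠ 1})
        { toFun := fun q => ⟨⟨q.1, q.2.1, orderOf_dvd_iff_pow_eq_one.1 q.2.2.dvd⟩, fun h => by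
            have h' : (q.1 : X) = 1 := congrArg Subtype.val h
            have := q.2.2
            rw [h', orderOf_one] at this
            omega⟩
          invFun := fun x => ⟨x.1, x.1.2.1, orderOf_eq_prime x.1.2.2 fun h => x.2 (Subtype.ext h)⟩
          left_inv := fun q => rfl
          right_inv := fun x => rfl }, Nat.card_eq_fintype_card, Fintype.card_subtype_compl,
        Fintype.card_subtype_eq, ← Nat.card_eq_fintype_card, hk]
      norm_num
    have h4Z : 4 ≤ Nat.card Z := by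
      have := card_le_of_le hOZ
      rw [hk] at this
      simpa using this
    have hexp' : ∃ x : (S : Subgroup X), x * x ≠ 1 := by
      by_contra h
      push Not at h
      have hSO : (S : Subgroup X) ≤ O := fun x hx =>
        ⟨hx, by rw [sq]; exact congrArg Subtype.val (h ⟨x, hx⟩)⟩
      rw [relIndex_eq_one.2 (hSO.trans hOZ)] at hidx
      omega
    have hn := CfsgLib.Homocyclic.normal_sylow (Nat.card X) X S rfl hsetup (by omega) hexp'
      fun N hN hodd => (hN.eq_bot_or_eq_top).resolve_right fun h => by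
        rw [h, card_top] at hodd
        have h2X : 2 ∣ Nat.card X := dvd_trans ⟨2 * Nat.card Z, by rw [hcardS]; ring⟩
          (card_subgroup_dvd_card (S : Subgroup X))
        exact Nat.not_even_iff_odd.2 hodd (even_iff_two_dvd.2 h2X)
    rcases hn.eq_bot_or_eq_top with h | h
    · exact hSne h
    · exact hna fun a b => hcomm a (h ▸ mem_top a) b (h ▸ mem_top b)

end CfsgLib.CentreFour
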