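import Cfsg.Agent.CommClosed.Induction
import Cfsg.Agent.Invol.Isolated
import Cfsg.Agent.Solvable.Basics
import Cfsg.Agent.Solvable.PGroupBasic
import Mathlib.GroupTheory.Transfer

/-!
# Sylow 2-subgroups with centre of index four: general tools

In a non-abelian simple group two disjoint commuting strongly closed subgroups generated by
involutions cannot both be nontrivial, and no involution of a Sylow 2-subgroup is isolated in it.
A 2-group with centre of index four has a derived subgroup of order two.
-/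

set_option autoImplicit false
set_option linter.style.haveILetI false
set_option linter.unusedSectionVars false

namespace CfsgLib.CentreFour

open Subgroup
open scoped commutatorElement

universe u

variable {X : Type u} [Group X] [Finite X]

theorem oddCore_eq_bot [IsSimpleGroup X] (S : Sylow 2 X) (hS : (S : Subgroup X) ≠ ⊥) :
    Cfsg.oddCore X = ⊥ := by
  haveI : Fact (Nat.Prime 2) := ⟨Nat.prime_two⟩
  refine ((CfsgLib.Solvable.pPrimeCore_spec (G := X) 2).1.eq_bot_or_eq_top).resolve_right fun h => hS ?_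
  have hc : (Nat.card (Cfsg.oddCore X)).Coprime 2 :=
    CfsgLib.Solvable.coprime_card_pPrimeCore (G := X) 2
  rw [show Cfsg.oddCore X = ⊤ from h, card_top] at hc
  obtain ⟨k, hk⟩ := IsPGroup.iff_card.1 S.isPGroup'
  have h2 : Nat.card (S : Subgroup X) ∣ Nat.card X := card_subgroup_dvd_card _
  refine eq_bot_of_card_eq _ (Nat.eq_one_of_dvd_coprimes (hc.pow_right k) h2 ?_)
  rw [hk]

/-- Two disjoint commuting strongly closed subgroups generated by involutions, both nontrivial,
force a simple group to be commutative. -/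
theorem comm_of_closed [IsSimpleGroup X] (S : Sylow 2 X) {T R : Subgroup X}
    (hT : Cfsg.IsStronglyClosed T (S : Subgroup X)) (hR : Cfsg.IsStronglyClosed R (S : Subgroup X))
    (hc : ∀ a ∈ T, ∀ b ∈ R, a * b = b * a) (hd : T ⊓ R = ⊥)
    (gT : T ≤ closure {x | x ∈ T ∧ orderOf x = 2}) (gR : R ≤ closure {x | x ∈ R ∧ orderOf x = 2})
    (hT1 : T ≠ ⊥) (hR1 : R ≠ ⊥) : ∀ a b : X, a * b = b * a := by
  have hO : Cfsg.oddCore X = ⊥ := oddCore_eq_bot S fun h => hT1 (le_bot_iff.1 (hT.1.trans h.le))
  have htop : ∀ A : Subgroup X, A ≠ ⊥ → normalClosure (A : Set X) = ⊤ := fun A hA =>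
    (normalClosure_normal.eq_bot_or_eq_top).resolve_left fun h =>
      hA (le_bot_iff.1 ((subset_normalClosure : (A : Set X) ⊆ _).trans (h.le)))
  intro a b
  exact CfsgLib.CommClosed.normalClosure_comm hO S hT hR hc hd gT gR a
    (htop T hT1 ▸ mem_top a) b (htop R hR1 ▸ mem_top b)

/-- An involution conjugate only to itself inside a Sylow subgroup is central in a simple group. -/
theorem false_of_unfused [IsSimpleGroup X] (hna : ¬ ∀ a b : X, a * b = b * a) (S : Sylow 2 X)
    {u : X} (hu : orderOf u = 2) (huS : u ∈ (S : Subgroup X))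
    (h : ∀ g : X, g * u * g⁻¹ ∈ (S : Subgroup X) → g * u * g⁻¹ = u) : False := by
  haveI : Fact (Nat.Prime 2) := ⟨Nat.prime_two⟩
  have hu1 : u ≠ 1 := fun e => by rw [e, orderOf_one] at hu; omega
  have hO : Cfsg.oddCore X = ⊥ := oddCore_eq_bot S fun e => hu1 (by rwa [e, mem_bot] at huS)
  have hiso := CfsgLib.Invol.isolated_of_sylow S hu h
  have hc : u ∈ center X := mem_center_iff.2 fun g => by
    have h := CfsgLib.IsoApps.comm_mem_oddCore hiso g
    rw [hO, mem_bot, mul_inv_eq_one, mul_inv_eq_iff_eq_mul] at h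
    exact h.symm
  rcases (inferInstance : (center X).Normal).eq_bot_or_eq_top with e | e
  · exact hu1 (by rwa [e, mem_bot] at hc)
  · exact hna fun a b => mem_center_iff.1 (e ▸ mem_top b) a

/-- A central element of a perfect group lies in the derived subgroup of any Sylow subgroup
containing it. -/
theorem mem_commutator_of_central [Group.IsPerfect X] (S : Sylow 2 X) {z : X}
    (hz : z ∈ center X) (hzS : z ∈ (S : Subgroup X)) :
    (⟨z, hzS⟩ : (S : Subgroup X)) ∈ commutator (S : Subgroup X) := by
  haveI : Fact (Nat.Prime 2) := ⟨Nat.prime_two⟩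
  let φ : (S : Subgroup X) →* Abelianization (S : Subgroup X) := Abelianization.of
  have key : ∀ (k : ℕ) (g₀ : X), g₀⁻¹ * z ^ k * g₀ ∈ (S : Subgroup X) →
      g₀⁻¹ * z ^ k * g₀ = z ^ k := fun k g₀ _ => by
    rw [mem_center_iff.1 (pow_mem hz k) g₀⁻¹, inv_mul_cancel_right]
  have h := MonoidHom.transfer_eq_pow φ z key
  have h1 : MonoidHom.transfer φ z = 1 := by
    have hle : commutator X ≤ (MonoidHom.transfer φ).ker := Abelianization.commutator_subset_ker _
    exact hle (by rw [Group.IsPerfect.commutator_eq_top]; exact mem_top z)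
  rw [h1] at h
  have hm : (⟨z, hzS⟩ : (S : Subgroup X)) ^ (S : Subgroup X).index ∈
      commutator (S : Subgroup X) := by
    rw [← Abelianization.ker_of]
    exact h.symm
  obtain ⟨k, hk⟩ := IsPGroup.iff_orderOf.1 S.isPGroup' ⟨z, hzS⟩
  have hco : (orderOf (⟨z, hzS⟩ : (S : Subgroup X))).Coprime (S : Subgroup X).index := by
    rw [hk]
    exact (Nat.prime_two.coprime_iff_not_dvd.2 S.not_dvd_index).pow_left k
  obtain ⟨m, hm'⟩ := exists_pow_eq_self_of_coprime hco.symm
  rw [← hm']
  exact pow_mem hm m

/-- A 2-group with centre of index four has derived subgroup of order two, and squares are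
central. -/
theorem card_commutator_two {P : Type u} [Group P] [Finite P] (hP : IsPGroup 2 P)
    (hna : ¬ IsMulCommutative P) (hidx : (center P).index = 4) :
    Nat.card (commutator P) = 2 ∧ commutator P ≤ center P ∧ ∀ x : P, x * x ∈ center P := by
  haveI : Fact (Nat.Prime 2) := ⟨Nat.prime_two⟩
  set Z := center P with hZ
  have hQ : Nat.card (P ⧸ Z) = 4 := by rw [← index_eq_card, hidx]
  have hcom : IsMulCommutative (P ⧸ Z) := IsPGroup.isMulCommutative_of_card_eq_prime_sq (p := 2)
    (by rw [hQ]; norm_num)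
  have hsq : ∀ x : P, x * x ∈ Z := fun x => by
    by_contra hne
    have hd := orderOf_dvd_natCard (x : P ⧸ Z)
    rw [hQ, show (4 : ℕ) = 2 ^ 2 by norm_num] at hd
    obtain ⟨k, hk, hk'⟩ := (Nat.dvd_prime_pow Nat.prime_two).1 hd
    have hk2 : k = 2 := by
      by_contra h2
      refine hne ((QuotientGroup.eq_one_iff _).1 ?_)
      have h1 : (x : P ⧸ Z) ^ 2 = 1 := orderOf_dvd_iff_pow_eq_one.1 (by
        rw [hk']
        exact (pow_dvd_pow 2 (show k ≤ 1 by omega)).trans (pow_one 2).dvd)
      rwa [sq, ← QuotientGroup.mk_mul] at h1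
    have : IsCyclic (P ⧸ Z) := isCyclic_of_orderOf_eq_card (x : P ⧸ Z) (by rw [hk', hk2, hQ]; norm_num)
    exact hna ((QuotientGroup.mk' Z).isMulCommutative_of_isCyclic_of_ker_le_center
      (by rw [QuotientGroup.ker_mk']))
  have hle : commutator P ≤ Z := by
    rw [_root_.commutator_def, commutator_le]
    intro x _ y _
    rw [← QuotientGroup.eq_one_iff]
    show QuotientGroup.mk' Z _ = 1
    rw [map_commutatorElement]
    exact commutatorElement_eq_one_iff_mul_comm.2 (hcom.is_comm.comm _ _)
  obtain ⟨a, ha⟩ : ∃ a : P, a ∉ Z := by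
    by_contra h
    push Not at h
    exact hna ⟨⟨fun x y => mem_center_iff.1 (h y) x⟩⟩
  obtain ⟨b, hb⟩ : ∃ b : P, b * a ≠ a * b := by
    by_contra h
    push Not at h
    exact ha (mem_center_iff.2 h)
  set c := ⁅a, b⁆ with hc
  have hcZ : c ∈ Z := hle (by rw [_root_.commutator_def]; exact commutator_mem_commutator (mem_top a) (mem_top b))
  have hc1 : c ≠ 1 := fun h => hb ((commutatorElement_eq_one_iff_mul_comm.1 h).symm)
  have hc2 : c * c = 1 := by
    have h1 : a * a * b * (a * a)⁻¹ * b⁻¹ = 1 := by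
      rw [← mem_center_iff.1 (hsq a) b, mul_inv_cancel_right, mul_inv_cancel]
    calc c * c = a * c * a⁻¹ * c := by rw [mem_center_iff.1 hcZ a, mul_inv_cancel_right]
      _ = a * a * b * (a * a)⁻¹ * b⁻¹ := by rw [hc, commutatorElement_def]; group
      _ = 1 := h1
  haveI : (zpowers c).Normal := ⟨fun n hn g => by
    rwa [mem_center_iff.1 ((zpowers_le.2 hcZ) hn) g, mul_inv_cancel_right]⟩
  let π := QuotientGroup.mk' (zpowers c)
  have hab : Commute (π a) (π b) := by
    refine commutatorElement_eq_one_iff_mul_comm.1 ?_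
    rw [← map_commutatorElement]
    exact (QuotientGroup.eq_one_iff _).2 (mem_zpowers c)
  -- every element is a central multiple of one of `1, a, b, a b`
  have hcos : ∀ x : P, ∃ z ∈ Z, x = z ∨ x = z * a ∨ x = z * b ∨ x = z * (a * b) := by
    intro x
    have hab' : a * b ∉ Z := fun h => hb (by
      have := mem_center_iff.1 h a
      rw [mul_assoc a b a] at this
      exact (mul_left_cancel this).symm)
    have hb' : b ∉ Z := fun h => hb (mem_center_iff.1 h a).symm
    have hne : (a : P ⧸ Z) ≠ b := fun h => hb (by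
      have := mem_center_iff.1 (QuotientGroup.eq.1 h) a
      rw [mul_inv_cancel_left, mul_assoc, ← inv_mul_eq_iff_eq_mul] at this
      calc b * a = a * (a⁻¹ * (b * a)) := by group
        _ = a * b := by rw [← this]; group)
    classical
    haveI : Fintype (P ⧸ Z) := Fintype.ofFinite _
    have hset : ({1, (a : P ⧸ Z), (b : P ⧸ Z), ((a * b : P) : P ⧸ Z)} : Finset (P ⧸ Z)) =
        Finset.univ := by
      refine Finset.eq_univ_of_card _ ?_
      rw [← Nat.card_eq_fintype_card, hQ]
      refine Finset.card_eq_four.2 ⟨_, _, _, _, ?_, ?_, ?_, hne, ?_, ?_, rfl⟩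
      · exact fun h => ha ((QuotientGroup.eq_one_iff a).1 h.symm)
      · exact fun h => hb' ((QuotientGroup.eq_one_iff b).1 h.symm)
      · exact fun h => hab' ((QuotientGroup.eq_one_iff _).1 h.symm)
      · intro h
        rw [QuotientGroup.mk_mul] at h
        exact hb' ((QuotientGroup.eq_one_iff b).1 (mul_eq_left.1 h.symm))
      · intro h
        rw [QuotientGroup.mk_mul] at h
        exact ha ((QuotientGroup.eq_one_iff a).1 (mul_eq_right.1 h.symm))
    have hx := Finset.mem_univ (x : P ⧸ Z)
    rw [← hset] at hx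
    simp only [Finset.mem_insert, Finset.mem_singleton] at hx
    have hmk : ∀ u : P, (x : P ⧸ Z) = u → ∃ z ∈ Z, x = z * u := fun u h =>
      ⟨x * u⁻¹, (QuotientGroup.eq_one_iff _).1 (by rw [QuotientGroup.mk_mul, h, ← QuotientGroup.mk_mul,
        mul_inv_cancel, QuotientGroup.mk_one]), (inv_mul_cancel_right x u).symm⟩
    rcases hx with h | h | h | h
    · exact ⟨x, (QuotientGroup.eq_one_iff x).1 h, Or.inl rfl⟩
    · obtain ⟨z, hz, e⟩ := hmk a h; exact ⟨z, hz, Or.inr (Or.inl e)⟩
    · obtain ⟨z, hz, e⟩ := hmk b h; exact ⟨z, hz, Or.inr (Or.inr (Or.inl e))⟩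
    · obtain ⟨z, hz, e⟩ := hmk _ h; exact ⟨z, hz, Or.inr (Or.inr (Or.inr e))⟩
  have hcent : ∀ x : P, Commute (π x) (π a) ∧ Commute (π x) (π b) := fun x => by
    obtain ⟨z, hz, h⟩ := hcos x
    have hza : ∀ y, Commute (π z) (π y) := fun y =>
      Commute.map (show Commute z y from (mem_center_iff.1 hz y).symm) π
    rcases h with rfl | rfl | rfl | rfl <;> (try simp only [map_mul])
    · exact ⟨hza a, hza b⟩
    · exact ⟨(hza a).mul_left rfl, (hza b).mul_left hab⟩
    · exact ⟨(hza a).mul_left hab.symm, (hza b).mul_left rfl⟩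
    · exact ⟨(hza a).mul_left ((Commute.refl _).mul_left hab.symm),
        (hza b).mul_left (hab.mul_left rfl)⟩
  have hall : ∀ x y : P, Commute (π x) (π y) := fun x y => by
    obtain ⟨z, hz, h⟩ := hcos y
    have hzx : Commute (π x) (π z) := Commute.map (show Commute x z from mem_center_iff.1 hz x) π
    rcases h with rfl | rfl | rfl | rfl <;> (try simp only [map_mul])
    exacts [hzx, hzx.mul_right (hcent x).1, hzx.mul_right (hcent x).2,
      hzx.mul_right ((hcent x).1.mul_right (hcent x).2)]
  have heq : commutator P = zpowers c := by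
    refine le_antisymm ?_ (zpowers_le.2 ?_)
    · rw [_root_.commutator_def, commutator_le]
      intro x _ y _
      rw [← QuotientGroup.eq_one_iff]
      show π _ = 1
      rw [map_commutatorElement]
      exact commutatorElement_eq_one_iff_mul_comm.2 (hall x y)
    · rw [_root_.commutator_def]; exact commutator_mem_commutator (mem_top a) (mem_top b)
  refine ⟨?_, hle, hsq⟩
  rw [heq, Nat.card_zpowers]
  exact orderOf_eq_prime (by rw [sq, hc2]) hc1

end CfsgLib.CentreFour
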