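import Cfsg.Agent.CentreFour.Abelian
import Cfsg.Agent.CentreFour.Fusion
import Cfsg.Agent.GW.Top.Statement
import Cfsg.Agent.AltSixMult.Bound
import Cfsg.Prelude.Def_CaseTheorems
import Mathlib.GroupTheory.SpecificGroups.KleinFour

/-!
# Quasisimple groups with a Sylow 2-subgroup of centre index four

The centre of the group meets the Sylow subgroup in the derived subgroup or trivially; in both
cases the simple quotient has a dihedral Sylow 2-subgroup and the theorem of Gorenstein and Walter
applies.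
-/

set_option autoImplicit false
set_option linter.style.haveILetI false
set_option linter.unusedSectionVars false

namespace CfsgLib.CentreFour

open Subgroup CfsgLib.Fusion.SmallCentre
open scoped commutatorElement

universe u

variable {G : Type u} [Group G] [Finite G]

/-- The order of an image modulo a normal subgroup. -/
theorem card_map_mk (A N : Subgroup G) [N.Normal] :
    Nat.card (A.map (QuotientGroup.mk' N)) * Nat.card (A ⊓ N : Subgroup G) = Nat.card A := by
  have h := card_mul_index (((QuotientGroup.mk' N).comp A.subtype).ker)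
  rw [index_ker, MonoidHom.range_eq_map, ← Subgroup.map_map, ← MonoidHom.range_eq_map, range_subtype,
    ← MonoidHom.comap_ker, QuotientGroup.ker_mk'] at h
  rw [mul_comm, ← h]
  congr 1
  rw [← Nat.card_congr (subgroupOfEquivOfLe (inf_le_left : A ⊓ N ≤ A)).toEquiv,
    inf_subgroupOf_left]
  rfl

/-- The theorem of Gorenstein and Walter for a simple group. -/
theorem gw_simple {X : Type u} [Group X] [Finite X] [IsSimpleGroup X] [Group.IsPerfect X]
    (S : Sylow 2 X) (n : ℕ) (hn : 2 ≤ n) (e : (S : Subgroup X) ≃* DihedralGroup n) :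
    (∃ (F : Type) (_ : Field F) (_ : Fintype F), Odd (Fintype.card F) ∧
        Nonempty (X ≃* Matrix.ProjectiveSpecialLinearGroup (Fin 2) F)) ∨
      Nonempty (X ≃* alternatingGroup (Fin 7)) := by
  have hS : (S : Subgroup X) ≠ ⊥ := fun h => by
    have h' := Nat.card_congr e.toEquiv
    rw [h, card_bot, DihedralGroup.nat_card] at h'
    omega
  have hO := oddCore_eq_bot S hS
  haveI : (Cfsg.oddCore X).Normal := by rw [hO]; infer_instance
  let eO : X ⧸ Cfsg.oddCore X ≃* X :=
    (QuotientGroup.quotientMulEquivOfEq hO).trans QuotientGroup.quotientBot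
  rcases CfsgLib.GW.Top.statement X S n hn ⟨e⟩ with ⟨F, i1, i2, ho, -, ⟨f⟩⟩ | hA
  · exact Or.inl ⟨F, i1, i2, ho, ⟨eO.symm.trans f⟩⟩
  · obtain ⟨f⟩ := hA
    exact Or.inr ⟨eO.symm.trans f⟩

theorem main (hq : Cfsg.IsQuasisimple G) (P : Sylow 2 G)
    (hna : ¬ IsMulCommutative (P : Subgroup G))
    (hZ : (center (P : Subgroup G)).index = 4) :
    Nat.card (P : Subgroup G) = 8 ∧
      (Nonempty (G ≃* alternatingGroup (Fin 7)) ∨
       (Nat.card (center G) = 3 ∧ Nonempty (G ⧸ center G ≃* alternatingGroup (Fin 7))) ∨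
       ∃ (F : Type) (_ : Field F) (_ : Fintype F), Odd (Fintype.card F) ∧
         Nonempty (G ⧸ center G ≃* Matrix.ProjectiveSpecialLinearGroup (Fin 2) F)) := by
  classical
  haveI : Fact (Nat.Prime 2) := ⟨Nat.prime_two⟩
  haveI : Group.IsPerfect G := hq.1
  haveI : IsSimpleGroup (G ⧸ center G) := hq.2
  set Z := center G with hZdef
  set π := QuotientGroup.mk' Z with hπdef
  have hπ : Function.Surjective π := QuotientGroup.mk'_surjective Z
  haveI : Group.IsPerfect (G ⧸ Z) := Group.IsPerfect.ofSurjective hπ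
  have hX : ¬ ∀ a b : G ⧸ Z, a * b = b * a := by
    intro h
    have hc : commutator (G ⧸ Z) = ⊥ := by
      rw [eq_bot_iff, _root_.commutator_def, commutator_le]
      exact fun x _ y _ => mem_bot.2 (commutatorElement_eq_one_iff_mul_comm.2 (h x y))
    rw [Group.IsPerfect.commutator_eq_top] at hc
    exact top_ne_bot hc
  set SX := P.mapSurjective hπ with hSX
  have hSXc : (SX : Subgroup (G ⧸ Z)) = (P : Subgroup G).map π := rfl
  have hcardS := card_map_mk (P : Subgroup G) Z
  have hcardP : Nat.card (P : Subgroup G) = Nat.card (center (P : Subgroup G)) * 4 := by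
    rw [← hZ, card_mul_index]
  obtain ⟨hc2, -, hsq⟩ := card_commutator_two P.isPGroup' hna hZ
  by_cases hK : (P : Subgroup G) ⊓ Z = ⊥
  · rw [hK, card_bot, mul_one] at hcardS
    let f : (P : Subgroup G) →* (SX : Subgroup (G ⧸ Z)) :=
      (π.comp (P : Subgroup G).subtype).codRestrict _ fun x => ⟨x, x.2, rfl⟩
    have hf : Function.Bijective f := by
      refine ⟨fun x y h => ?_, ?_⟩
      · have h' : π (x : G) = π y := congrArg Subtype.val h
        have hm : (x : G)⁻¹ * y ∈ (P : Subgroup G) ⊓ Z :=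
          mem_inf.2 ⟨mul_mem (inv_mem x.2) y.2, QuotientGroup.eq.1 h'⟩
        rw [hK, mem_bot, inv_mul_eq_one] at hm
        exact Subtype.ext hm
      · rintro ⟨_, x, hx, rfl⟩
        exact ⟨⟨x, hx⟩, rfl⟩
    let e := MulEquiv.ofBijective f hf
    have hna' : ¬ IsMulCommutative (SX : Subgroup (G ⧸ Z)) := fun h =>
      hna ⟨⟨fun x y => e.injective (by rw [map_mul, map_mul]; exact h.is_comm.comm _ _)⟩⟩
    have hZ' : (center (SX : Subgroup (G ⧸ Z))).index = 4 := by
      refine Nat.eq_of_mul_eq_mul_left (Nat.card_pos (α := center (SX : Subgroup (G ⧸ Z)))) ?_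
      rw [card_mul_index, ← Nat.card_congr (Subgroup.centerCongr e).toEquiv,
        ← Nat.card_congr e.toEquiv, hcardP]
    obtain ⟨h8, ⟨d⟩⟩ := card_eight hX SX hna' hZ'
    have hP8 : Nat.card (P : Subgroup G) = 8 := by rw [← hcardS, ← hSXc, h8]
    refine ⟨hP8, ?_⟩
    rcases gw_simple SX 4 (by norm_num) d with hF | hA
    · exact Or.inr (Or.inr hF)
    obtain ⟨eX⟩ := hA
    let τ : G →* alternatingGroup (Fin 7) := eX.toMonoidHom.comp π
    have hker : τ.ker = Z := by
      ext x
      rw [MonoidHom.mem_ker]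
      show eX (π x) = 1 ↔ _
      rw [map_eq_one_iff eX eX.injective]
      exact QuotientGroup.eq_one_iff x
    have hτ : Cfsg.IsStemExtension τ := ⟨eX.surjective.comp hπ, hker.le, by
      rw [Group.IsPerfect.commutator_eq_top]; exact le_top⟩
    have hdvd := CfsgLib.AltSixMult.card_ker_dvd_six (Or.inr rfl) hτ
    rw [hker] at hdvd
    have hodd : ¬ 2 ∣ Nat.card Z := by
      have hX1 := card_mul_index (SX : Subgroup (G ⧸ Z))
      have hG1 := card_mul_index (P : Subgroup G)
      have hq1 := card_eq_card_quotient_mul_card_subgroup Z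
      rw [h8] at hX1
      rw [hP8, hq1, ← hX1, mul_assoc] at hG1
      intro h
      exact P.not_dvd_index (Nat.eq_of_mul_eq_mul_left (by norm_num) hG1 ▸ Dvd.dvd.mul_left h _)
    have h13 : Nat.card Z = 1 ∨ Nat.card Z = 3 := by
      have hle := Nat.le_of_dvd (by norm_num) hdvd
      have hpos : 0 < Nat.card Z := Nat.card_pos
      interval_cases h : Nat.card Z <;> omega
    rcases h13 with h1 | h3
    · refine Or.inl ⟨?_⟩
      have hinj : Function.Injective π := by
        rw [← MonoidHom.ker_eq_bot_iff, hπdef, QuotientGroup.ker_mk']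
        exact eq_bot_of_card_eq _ h1
      exact (MulEquiv.ofBijective π ⟨hinj, hπ⟩).trans eX
    · exact Or.inr (Or.inl ⟨h3, ⟨eX⟩⟩)
  · -- the centre of `G` contains the derived subgroup of `P`
    set K := (P : Subgroup G) ⊓ Z with hKdef
    have hKP : K ≤ (P : Subgroup G) := inf_le_left
    have hKle : K.subgroupOf (P : Subgroup G) ≤ commutator (P : Subgroup G) := fun x hx =>
      mem_commutator_of_central P hx.2 x.2
    have hKcard : Nat.card K = 2 := by
      have h1 : Nat.card (K.subgroupOf (P : Subgroup G)) = Nat.card K :=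
        Nat.card_congr (subgroupOfEquivOfLe hKP).toEquiv
      have h2 := card_le_of_le hKle
      haveI : Nontrivial K := (nontrivial_iff_ne_bot K).2 hK
      have h3 := Finite.one_lt_card (α := K)
      omega
    have hKeq : K.subgroupOf (P : Subgroup G) = commutator (P : Subgroup G) :=
      eq_of_le_of_card_ge hKle (by
        rw [hc2, Nat.card_congr (subgroupOfEquivOfLe hKP).toEquiv, hKcard])
    have hcomm : ∀ a ∈ (SX : Subgroup (G ⧸ Z)), ∀ b ∈ (SX : Subgroup (G ⧸ Z)), a * b = b * a := by
      rintro _ ⟨x, hx, rfl⟩ _ ⟨y, hy, rfl⟩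
      have h : (⁅(⟨x, hx⟩ : (P : Subgroup G)), ⟨y, hy⟩⁆ : (P : Subgroup G)) ∈
          K.subgroupOf (P : Subgroup G) := by
        rw [hKeq, _root_.commutator_def]
        exact commutator_mem_commutator (mem_top _) (mem_top _)
      have h' : π ⁅x, y⁆ = 1 := (QuotientGroup.eq_one_iff _).2 h.2
      rw [map_commutatorElement] at h'
      exact commutatorElement_eq_one_iff_mul_comm.1 h'
    set C := zc (P : Subgroup G) with hC
    have hCP : C ≤ (P : Subgroup G) := fun x hx => hx.1
    have hcardC : Nat.card C = Nat.card (center (P : Subgroup G)) := by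
      rw [← zc_subgroupOf, Nat.card_congr (subgroupOfEquivOfLe hCP).toEquiv]
    have hCK : C ⊓ Z = K := le_antisymm (inf_le_inf_right _ hCP) fun x hx =>
      ⟨mem_zc.2 ⟨hx.1, fun y _ => mem_center_iff.1 hx.2 y⟩, hx.2⟩
    have hinv : Inv SX (C.map π) := by
      refine ⟨map_mono hCP, ?_⟩
      rintro n hn _ ⟨x, hx, rfl⟩
      obtain ⟨g, rfl⟩ := hπ n
      obtain ⟨y, hy, hye⟩ : π g * π x * (π g)⁻¹ ∈ (SX : Subgroup (G ⧸ Z)) :=
        (mem_normalizer_iff.1 hn _).1 ⟨x, hCP hx, rfl⟩
      refine ⟨y, mem_zc.2 ⟨hy, fun w hw => ?_⟩, hye⟩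
      have hz : (g * x * g⁻¹)⁻¹ * y ∈ Z := QuotientGroup.eq.1 (by
        show π (g * x * g⁻¹) = π y
        rw [map_mul, map_mul, map_inv, hye])
      obtain ⟨v, hv, hve⟩ : (π g)⁻¹ * π w * π g ∈ (SX : Subgroup (G ⧸ Z)) := by
        have h := (mem_normalizer_iff.1 (inv_mem hn) (π w)).1 ⟨w, hw, rfl⟩
        rwa [inv_inv] at h
      have hz' : (g⁻¹ * w * g)⁻¹ * v ∈ Z := QuotientGroup.eq.1 (by
        show π (g⁻¹ * w * g) = π v
        rw [map_mul, map_mul, map_inv, hve])
      have hxv : Commute x v := ((mem_zc.1 hx).2 v hv).symm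
      have hxw : Commute x (g⁻¹ * w * g) := by
        rw [show g⁻¹ * w * g = v * ((g⁻¹ * w * g)⁻¹ * v)⁻¹ by group]
        exact hxv.mul_right (mem_center_iff.1 (inv_mem hz') x)
      have hgw : Commute (g * x * g⁻¹) w := by
        have h := hxw.map (MulAut.conj g).toMonoidHom
        simpa [MulAut.conj_apply, mul_assoc] using h
      rw [show y = g * x * g⁻¹ * ((g * x * g⁻¹)⁻¹ * y) by group]
      exact ((hgw.symm).mul_right (mem_center_iff.1 hz w)).eq
    have hcardC' := card_map_mk C Z
    rw [hCK, hKcard] at hcardC'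
    rw [hKcard, ← hSXc] at hcardS
    have hidx : (C.map π).relIndex (SX : Subgroup (G ⧸ Z)) = 4 := by
      refine Nat.eq_of_mul_eq_mul_left (Nat.card_pos (α := C.map π)) ?_
      have h := card_mul_index ((C.map π).subgroupOf (SX : Subgroup (G ⧸ Z)))
      rw [Nat.card_congr (subgroupOfEquivOfLe hinv.1).toEquiv] at h
      rw [relIndex, h]
      change Nat.card (C.map π) * 2 = Nat.card C at hcardC'
      omega
    obtain ⟨h4, hex⟩ := card_eq_four hcomm hX hinv hidx (by
      rintro _ ⟨x, hx, rfl⟩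
      refine ⟨x * x, ?_, map_mul π x x⟩
      have h := hsq ⟨x, hx⟩
      rw [← zc_subgroupOf] at h
      exact h)
    refine ⟨by omega, Or.inr (Or.inr ?_)⟩
    have hk : IsKleinFour (SX : Subgroup (G ⧸ Z)) := by
      refine ⟨h4, ?_⟩
      haveI : Nontrivial (SX : Subgroup (G ⧸ Z)) := Finite.one_lt_card_iff_nontrivial.1 (by omega)
      rcases (Nat.dvd_prime Nat.prime_two).1 (Monoid.exponent_dvd_of_forall_pow_eq_one
        (G := (SX : Subgroup (G ⧸ Z))) fun x => Subtype.ext (by
          rw [coe_pow, sq]; exact hex x x.2)) with h | h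
      · exact absurd (Monoid.exp_eq_one_iff.1 h) (not_subsingleton _)
      · exact h
    obtain ⟨d⟩ := (IsKleinFour.nonempty_mulEquiv :
      Nonempty ((SX : Subgroup (G ⧸ Z)) ≃* DihedralGroup 2))
    rcases gw_simple SX 2 le_rfl d with hF | hA
    · exact hF
    · exfalso
      obtain ⟨eX⟩ := hA
      have h := card_mul_index (SX : Subgroup (G ⧸ Z))
      have hA : Nat.card (alternatingGroup (Fin 7)) = 2520 := by
        rw [nat_card_alternatingGroup, Nat.card_eq_fintype_card, Fintype.card_fin]
        rfl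
      rw [h4, Nat.card_congr eX.toEquiv, hA] at h
      exact SX.not_dvd_index ⟨315, by omega⟩

end CfsgLib.CentreFour
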